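import Cfsg.Agent.N2.Cl.Quad.Refl

/-!
# N2 (S3519), classical socles: the class `pNS` (helper60)

Only orthogonal groups in characteristic two; `H` fixes the reflection in a non-singular vector `v`.  Some element of
`Ω(Q)` has its fixed space of dimension at most two, between `⟨v⟩` and `v^⊥`; it fixes at most `q` conjugates of `v`.
-/

set_option autoImplicit false
set_option linter.unusedSectionVars false

namespace Cfsg.Agent.N2C

open Cfsg Cfsg.Agent.DS.Cl Cfsg.Agent.DS.Cl.Fwd Cfsg.Agent.SB.Cl Cfsg.Agent.SB.Tor Module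
open Cfsg.Agent.TH.Cl (NSD)
open Cfsg.Agent.TH.Cl.Cases (ns_max Q_star qr_smul b_self_two refl_mul_mem exists_perp_ns line_of_ns)
open Cfsg.Agent.N2C.Quad (fixS mem_fixS fixS_one fixS_mul finrank_inf_ker step descent)

namespace NS

variable {K V : Type} [Field K] [Finite K] [AddCommGroup V] [Module K V] [Finite V] {h : HF K V} {F : FR h.EB}
  {Q : QuadraticForm K V} (hO : IsO h F Q) (h2 : (2 : K) = 0) {v : V} (hv : Q v ≠ 0)
include hO h2 hv

omit hO in
theorem qr_inj {κ : K} (hκ : κ ≠ 0) {y y' : V} (hy : Q y = Q v) (hy' : Q y' = Q v) (h1 : qr h κ y = qr h κ y') :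
    y = y' := by
  obtain ⟨z, hz⟩ := h.exists_ne (v := y) fun h0 => hv (by rw [← hy, h0, map_zero])
  have h3 := congrArg (fun a => h.ap a z) h1
  simp only [ap_qr, sub_right_inj] at h3
  obtain ⟨t, h4⟩ : ∃ t : K, y = t • y' :=
    ⟨_, by rw [mul_smul, ← h3, smul_smul, inv_mul_cancel₀ (mul_ne_zero hκ hz), one_smul]⟩
  rw [h4, QuadraticMap.map_smul, hy', smul_eq_mul, mul_eq_right₀ hv] at hy
  have h5 : (t - 1) ^ 2 = 0 := by linear_combination hy + (1 - t) * h2
  rw [h4, sub_eq_zero.1 (pow_eq_zero_iff two_ne_zero |>.1 h5), one_smul]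

/-- the vectors of the same length which are not orthogonal to `v` lie in the orbit -/
theorem exists_orb {y : V} (hy : Q y = Q v) (hb : h.b v y ≠ 0) :
    ∃ u ∈ F.Iso, cj h.EB u ∈ F.S ∧ h.ap u v = y := by
  have h1 : Q (v + y) = h.b v y := by rw [O_add hO, hy, ← two_mul, h2, zero_mul, zero_add]
  obtain ⟨r, hr, hr'⟩ := exists_reflU hO hv
  obtain ⟨s, hs, hs'⟩ := exists_reflU hO (h1 ▸ hb)
  refine ⟨s * r, mul_mem hs hr, refl_mul_mem hO h2 (h1 ▸ hb) hv hr hs' hr', ?_⟩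
  rw [Units.val_mul, h.ap_mul, hr', hs', ap_qr, ap_qr, b_self_two hO h2, mul_zero, zero_smul, sub_zero, h.add_right,
    b_self_two hO h2, zero_add, h1, inv_mul_cancel₀ hb, one_smul]
  linear_combination (norm := module) -h2 • y

theorem card_orb (h6 : 6 ≤ finrank K V) : Nat.card K ^ 3 ≤ {y | Q y = Q v ∧ h.b v y ≠ 0}.ncard := by
  have : Module.Finite K V := Module.Finite.of_finite
  have : CharP K 2 := (CharP.charP_iff_prime_eq_zero Nat.prime_two).2 h2
  have hb := b_self_two hO h2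
  obtain ⟨e, he⟩ := h.exists_ne (v := v) fun h0 => hv (by rw [h0, map_zero])
  obtain ⟨z, hz, hze, hzv⟩ := exists_perp_ns hO (by omega) hb he
  obtain ⟨t, ht⟩ := FiniteField.isSquare_of_char_two (ringChar.eq K 2) (Q z / Q v)
  have ht0 : t ≠ 0 := fun h0 => div_ne_zero hz hv (by rw [ht, h0, mul_zero])
  obtain ⟨f, hf⟩ : ∃ f, f = z + t • v := ⟨_, rfl⟩
  have f1 : Q f = 0 := by
    rw [hf, O_add hO, QuadraticMap.map_smul, h.smul_right, hzv, mul_zero, add_zero, ← ht, smul_eq_mul,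
      div_mul_cancel₀ _ hv, ← two_mul, h2, zero_mul]
  have f2 : h.b f v = 0 := by rw [hf, h.add_left, h.smul_left, hzv, hb, mul_zero, add_zero]
  have f3 : h.b f e ≠ 0 := by
    rw [hf, h.add_left, h.smul_left, hze, zero_add]
    exact mul_ne_zero ht0 (h.ne_swap he)
  let φ : V →ₗ[K] K × K × K := (h.lin e).prod ((h.lin f).prod (h.lin v))
  have h3 : 3 ≤ finrank K (LinearMap.ker φ) := by
    have h4 := φ.finrank_range_add_finrank_ker
    have h5 := Submodule.finrank_le (LinearMap.range φ)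
    simp only [finrank_prod, finrank_self] at h5
    omega
  have hφ : ∀ x : LinearMap.ker φ, h.b x e = 0 ∧ h.b x f = 0 ∧ h.b x v = 0 := fun x =>
    ⟨congrArg (·.1) x.2, congrArg (·.2.1) x.2, congrArg (·.2.2) x.2⟩
  calc Nat.card K ^ 3 ≤ Nat.card (LinearMap.ker φ) := by
        rw [Module.natCard_eq_pow_finrank (K := K) (V := LinearMap.ker φ)]
        exact Nat.pow_le_pow_right Nat.card_pos h3
    _ ≤ _ := by
        rw [← Nat.card_coe_set_eq]
        refine Nat.card_le_card_of_injective (fun x : LinearMap.ker φ =>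
          ⟨x + e + ((Q v - Q (x + e)) / h.b f e) • f, ?_, ?_⟩) fun x x' hx => ?_
        · rw [O_add hO, QuadraticMap.map_smul, f1, smul_zero, h.smul_right, hO.1, h.add_left, (hφ x).2.1,
            O_symm hO e f, zero_add, div_mul_cancel₀ _ f3]
          ring
        · rw [O_symm hO, h.add_left, h.add_left, h.smul_left, (hφ x).2.2, f2, mul_zero, zero_add, add_zero]
          exact he
        · have h4 := congrArg Subtype.val hx
          have h5 := congrArg (fun y => h.b y e) h4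
          simp only [h.add_left, h.smul_left, (hφ _).1, add_right_inj, mul_left_inj' f3] at h5
          simp only [h5, add_left_inj] at h4
          exact Subtype.ext h4

theorem card_fix {C : Submodule K V} (h1 : v ∈ C) (h3 : C ≤ LinearMap.ker (h.lin v)) (h4 : finrank K C ≤ 2) :
    {y | y ∈ C ∧ Q y = Q v}.ncard ≤ Nat.card K := by
  have : Module.Finite K V := Module.Finite.of_finite
  have h5 : Nat.card ({y | y ∈ C ∧ Q y = Q v} × K) ≤ Nat.card C := by
    refine Nat.card_le_card_of_injective (fun x => ⟨x.1.1 + x.2 • v, add_mem x.1.2.1 (C.smul_mem _ h1)⟩) ?_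
    rintro ⟨⟨y, hy, hy'⟩, s⟩ ⟨⟨y', hz, hz'⟩, s'⟩ hx
    have h6 : y + s • v = y' + s' • v := congrArg Subtype.val hx
    have h7 := congrArg Q h6
    have a1 : h.b y v = 0 := h3 hy
    have a2 : h.b y' v = 0 := h3 hz
    rw [O_add hO, O_add hO, QuadraticMap.map_smul, QuadraticMap.map_smul, h.smul_right, h.smul_right, a1, a2, hy', hz',
      mul_zero, mul_zero, add_zero, add_zero, add_right_inj, smul_eq_mul, smul_eq_mul, mul_left_inj' hv] at h7
    have h8 : (s - s') ^ 2 = 0 := by linear_combination h7 + (s' ^ 2 - s * s') * h2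
    obtain rfl := sub_eq_zero.1 (pow_eq_zero_iff two_ne_zero |>.1 h8)
    obtain rfl := add_right_cancel h6
    rfl
  rw [Nat.card_prod, Nat.card_coe_set_eq, Module.natCard_eq_pow_finrank (K := K) (V := C)] at h5
  refine Nat.le_of_mul_le_mul_right (h5.trans ?_) (Nat.card_pos (α := K))
  rw [← pow_two]
  exact Nat.pow_le_pow_right Nat.card_pos h4

theorem exists_elt (h3 : 3 ≤ finrank K V) : ∃ a ∈ F.Iso, cj h.EB a ∈ F.S ∧ fixS a ≤ LinearMap.ker (h.lin v) ∧
    v ∈ fixS a ∧ finrank K (fixS a) ≤ 2 := by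
  have hb := b_self_two hO h2
  have hw : ∀ y ∈ LinearMap.ker (h.lin v), (∀ c : K, y ≠ c • v) → ∃ w, Q w ≠ 0 ∧ h.b w v = 0 ∧ h.b w y ≠ 0 :=
    fun y hy hy' => by
      obtain ⟨x, a1, a2⟩ := exists_sep (h := h) hy'
      by_cases h1 : Q x = 0
      · exact ⟨x + v, by rwa [O_add hO, h1, a1, zero_add, add_zero], by rw [h.add_left, a1, hb, add_zero], by
          rwa [h.add_left, O_symm hO v y, show h.b y v = 0 from hy, add_zero]⟩
      · exact ⟨x, h1, a1, a2⟩
  have hv0 : v ≠ 0 := fun h0 => hv (by rw [h0, map_zero])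
  obtain ⟨e, he⟩ := h.exists_ne hv0
  obtain ⟨r, hr, hr'⟩ := exists_reflU hO hv
  have h4 := fixS_mul (u := 1) (by simp) (inv_ne_zero hv) hr' (y := e) (mem_fixS.2 (h.ap_one e)) (h.ne_swap he)
  have h5 := finrank_inf_ker (U := ⊤) (f := h.lin v) (y := e) trivial he
  rw [mul_one, fixS_one] at h4
  rw [← h4, finrank_top] at h5
  obtain ⟨w, b1, s, b2, b3, b4, b5, -⟩ := step hO hw hr (h4.le.trans inf_le_right) (h4.ge ⟨trivial, hb v⟩)
    (by rw [finrank_span_singleton hv0]; omega)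
  obtain ⟨a, c1, c2, c3, c4, c5, -⟩ := descent hO hw h2 _ _ (mul_mem b2 hr) (refl_mul_mem hO h2 b1 hv hr b3 hr') b4 b5 rfl
  exact ⟨a, c1, c2, c3, c4, by rwa [finrank_span_singleton hv0] at c5⟩

/-- the stabiliser of a non-singular point in characteristic two -/
theorem gd_of_refl (h6 : 6 ≤ finrank K V) {H : Subgroup (RingAut h.EB)} {p : ℕ} (c : Ctx F H p)
    (hH : ∀ γ ∈ H, γ (qr h (Q v)⁻¹ v) = qr h (Q v)⁻¹ v) : Gd F H := by
  have hcj : ∀ u ∈ F.Iso, ∀ y, cj h.EB u • qr h (Q v)⁻¹ y = qr h (Q v)⁻¹ (h.ap u y) := fun u hu y => qr_conj h hu.1 _ y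
  have h3 := card_orb hO h2 hv h6
  obtain ⟨a, a1, a2, a3, a4, a5⟩ := exists_elt hO h2 hv (by omega)
  refine c.gd_of_smul (x := qr h (Q v)⁻¹ v) hH (fun h1 => ?_) a2 (by rw [hcj a a1, mem_fixS.1 a4]) ?_
  · obtain ⟨y, hy, hy'⟩ := Set.nonempty_of_ncard_ne_zero (lt_of_lt_of_le (pow_pos Nat.card_pos 3) h3).ne'
    obtain ⟨u, u1, u2, u3⟩ := exists_orb hO h2 hv hy hy'
    have h4 := h1 _ u2
    rw [hcj u u1, u3] at h4
    exact hy' (by rw [qr_inj h2 hv (inv_ne_zero hv) hy rfl h4, b_self_two hO h2])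
  calc _ ≤ Nat.card K ^ 3 := by
        refine Nat.pow_le_pow_left (le_trans ?_ (card_fix hO h2 hv a4 a3 a5)) 3
        refine le_trans (Set.ncard_le_ncard ?_) (Set.ncard_image_le (f := qr h (Q v)⁻¹))
        rintro _ ⟨⟨s, hs, rfl⟩, h4⟩
        obtain ⟨g, hg, rfl⟩ := F.S_le_PI hs
        have h5 := (mem_Iso_O hO g).1 hg v
        rw [hcj g hg, hcj a a1] at h4
        exact ⟨h.ap g v, ⟨mem_fixS.2 (qr_inj h2 hv (inv_ne_zero hv) (((mem_Iso_O hO a).1 a1 _).trans h5) h5 h4), h5⟩,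
          (hcj g hg v).symm⟩
    _ ≤ _ := by
        refine h3.trans ?_
        rw [← Set.InjOn.ncard_image (f := qr h (Q v)⁻¹) fun y hy y' hy' => qr_inj h2 hv (inv_ne_zero hv) hy.1 hy'.1]
        refine Set.ncard_le_ncard ?_
        rintro _ ⟨y, hy, rfl⟩
        obtain ⟨u, u1, u2, u3⟩ := exists_orb hO h2 hv hy.1 hy.2
        exact ⟨_, u2, by rw [hcj u u1, u3]⟩

omit h2 hv in
theorem ns_O (h6 : 6 ≤ finrank K V) {H : Subgroup (RingAut h.EB)} {p : ℕ} (c : Ctx F H p) (hN : NSD F H) : Gd F H := by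
  have : Nontrivial V := Module.nontrivial_of_finrank_pos (R := K) (by omega)
  obtain ⟨R, h0, hinv, h1, hns⟩ := hN
  obtain ⟨x₀, hx₀, hx₀'⟩ := Submodule.exists_mem_ne_zero_of_ne_bot h0
  obtain ⟨v₀, hw⟩ : ∃ v₀, Q (h.ap (star x₀) v₀) ≠ 0 := by
    by_contra hcon
    push Not at hcon
    exact hx₀' (hns x₀ hx₀ ((mem_L_O hO _).2 fun v => by rw [Q_star hO, hcon]))
  have h2 : (2 : K) = 0 := by
    have h4 := O_self hO (h.ap (star x₀) v₀)
    rw [h.star_b, ← h.ap_mul, h1 x₀ hx₀ x₀ hx₀, ap_zero, h.zero_right] at h4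
    exact (mul_eq_zero.1 h4.symm).resolve_right hw
  refine gd_of_refl hO h2 hw h6 c fun γ hγ => ?_
  obtain ⟨L⟩ := exists_SL h (c.le_SAut hγ)
  obtain ⟨t, ht⟩ := line_of_ns hO h2 h1 hns hx₀ hw (hinv γ hγ x₀ hx₀) (L.g v₀)
  rw [← c.le_SAut hγ, L.conj] at ht
  have ht0 : t ≠ 0 := fun h3 => hw (by
    rw [h3, zero_smul, EmbeddingLike.map_eq_zero_iff] at ht
    rw [ht, map_zero])
  rw [L.map_qr, map_inv₀, div_eq_mul_inv, ← mul_inv, mul_comm, ← SL.quad hO L (c.le hγ), ht, qr_smul hO ht0]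

end NS

/-- **[NS]** -/
theorem ns : On pNS :=
  ⟨fun _ _ _ _ F _ _ _ _ _ h => (ns_max (TH.Cl.Cases.L_eq_LR F) h).elim,
    fun _ _ _ _ _ _ _ _ _ _ _ _ k _ _ h => (ns_max k.L h).elim,
    fun _ _ _ _ _ _ _ _ _ _ _ _ k _ _ h => (ns_max k.sp.2.2 h).elim,
    fun _ _ _ _ _ _ _ _ _ _ _ _ k c h => NS.ns_O k.o (by have := k.dim; omega) c h⟩

end Cfsg.Agent.N2C
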